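import Groth.Agent.CohBCLib.HCmp
import Groth.Agent.KFlatLib.Stalk
import Groth.Agent.AmpleLib.Gen
import Groth.Agent.TwistLib.PullGen
import Groth.Agent.FormalLib.Main

/-!
# Cohomology of direct sums of quasi-coherent modules

On a quasi-compact scheme with affine intersections of affine opens, a direct sum of quasi-coherent
modules without cohomology in degree `p` has none either: a Čech cochain of a direct sum involves
finitely many summands only.
-/

set_option autoImplicit false
set_option maxHeartbeats 1000000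

universe u

open CategoryTheory CategoryTheory.Limits AlgebraicGeometry TopologicalSpace Opposite HomologicalComplex
open QCohLib (toAbF HU)

noncomputable section

namespace AmpleAffLib

variable {X : Scheme.{u}} {ι : Type u} (F : ι → X.Modules)

open Classical in
/-- The projection of `∐ F` onto finitely many summands. -/
def eS (S : Finset ι) : ∐ F ⟶ ∐ F := Sigma.desc fun j => if j ∈ S then Sigma.ι F j else 0

open Classical in
theorem ι_eS (S : Finset ι) (j : ι) : Sigma.ι F j ≫ eS F S = if j ∈ S then Sigma.ι F j else 0 :=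
  Sigma.ι_desc _ _

theorem eS_comp_of_subset {S T : Finset ι} (h : S ⊆ T) : eS F S ≫ eS F T = eS F S := by
  refine Sigma.hom_ext _ _ fun j => ?_
  rw [← Category.assoc, ι_eS]
  split_ifs with hj
  · rw [ι_eS, if_pos (h hj)]
  · rw [zero_comp]

theorem fixed_mono_stalk {S T : Finset ι} (h : S ⊆ T) {x : X}
    {z : (DerSch.stalkFunctor X x).obj (∐ F)} (hz : ((DerSch.stalkFunctor X x).map (eS F S)).hom z = z) :
    ((DerSch.stalkFunctor X x).map (eS F T)).hom z = z := by
  conv_lhs => rw [← hz]
  have e := congrArg (fun φ => ((DerSch.stalkFunctor X x).map φ).hom z) (eS_comp_of_subset F h)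
  simp only [Functor.map_comp] at e
  exact e.trans hz

/-- Every germ of a section of a direct sum involves finitely many summands. -/
theorem exists_fixed_stalk (x : X) (z : (DerSch.stalkFunctor X x).obj (∐ F)) :
    ∃ S : Finset ι, ((DerSch.stalkFunctor X x).map (eS F S)).hom z = z := by
  classical
  let P := DerSch.stalkFunctor X x
  let N : Submodule (X.presheaf.stalk x) (P.obj (∐ F)) :=
    { carrier := {z | ∃ S : Finset ι, (P.map (eS F S)).hom z = z}
      zero_mem' := ⟨∅, map_zero _⟩
      add_mem' := by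
        rintro a b ⟨S, hS⟩ ⟨T, hT⟩
        exact ⟨S ∪ T, by rw [map_add, fixed_mono_stalk F Finset.subset_union_left hS,
          fixed_mono_stalk F Finset.subset_union_right hT]⟩
      smul_mem' := by
        rintro c a ⟨S, hS⟩
        exact ⟨S, by rw [map_smul, hS]⟩ }
  have hN : ∀ (j : ι) (w : P.obj (F j)), (P.map (Sigma.ι F j)).hom w ∈ N := fun j w => ⟨{j}, by
    have e := congrArg (fun φ => (P.map φ).hom w) ((ι_eS F {j} j).trans (if_pos (Finset.mem_singleton_self j)))
    simp only [Functor.map_comp] at e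
    exact e⟩
  have h0 : ModuleCat.ofHom N.mkQ = (0 : P.obj (∐ F) ⟶ ModuleCat.of _ (P.obj (∐ F) ⧸ N)) := by
    refine (isColimitOfPreserves P (coproductIsCoproduct F)).hom_ext fun ⟨j⟩ => ?_
    refine ModuleCat.hom_ext (LinearMap.ext fun w => ?_)
    exact (Submodule.Quotient.mk_eq_zero N).2 (hN j w)
  exact (Submodule.Quotient.mk_eq_zero N).1 (congr($(h0).hom z))

/-- A section over a quasi-compact open involves finitely many summands. -/
theorem exists_fixed_section {W : X.Opens} (hW : IsCompact (W : Set X)) (s : Γ(∐ F, W)) :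
    ∃ S : Finset ι, ∀ T, S ⊆ T → (eS F T).app W s = s := by
  classical
  have hloc : ∀ x : W, ∃ (U : X.Opens) (hU : U ≤ W) (S : Finset ι), x.1 ∈ U ∧
      (eS F S).app U (AmpleLib.res _ hU s) = AmpleLib.res _ hU s := by
    rintro ⟨x, hx⟩
    obtain ⟨S, hS⟩ := exists_fixed_stalk F x ((∐ F).presheaf.germ W x hx s)
    have h1 : (∐ F).presheaf.germ W x hx ((eS F S).app W s) = (∐ F).presheaf.germ W x hx s :=
      (DerSch.stalkFunctor_map_germ x (eS F S) W hx s).symm.trans hS
    obtain ⟨U, hxU, i₁, i₂, h2⟩ := TopCat.Presheaf.germ_eq (∐ F).presheaf x _ _ _ _ h1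
    exact ⟨U, i₁.le, S, hxU, (QCohLib.app_map (eS F S) i₁ s).trans h2⟩
  choose U hU S hxU hS using hloc
  obtain ⟨t, ht⟩ := hW.elim_finite_subcover (fun x : W => (U x : Set X)) (fun x => (U x).2)
    fun x hx => Set.mem_iUnion.mpr ⟨⟨x, hx⟩, hxU _⟩
  refine ⟨t.biUnion S, fun T hT => TwistLib.mod_ext _ fun x hx => ?_⟩
  obtain ⟨y, hy, hxy⟩ := Set.mem_iUnion₂.mp (ht hx)
  rw [← AmpleLib.germ_res (∐ F) (hU y) _ hxy, ← AmpleLib.germ_res (∐ F) (hU y) s hxy]
  refine congrArg _ ?_
  refine (QCohLib.app_map (eS F T) (homOfLE (hU y)) s).symm.trans ?_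
  have e := congrArg (fun φ : ∐ F ⟶ ∐ F => φ.app (U y) (AmpleLib.res _ (hU y) s))
    (eS_comp_of_subset F ((Finset.subset_biUnion_of_mem S hy).trans hT))
  refine Eq.trans ?_ (e.trans (hS y))
  exact congrArg ((eS F T).app (U y)) (hS y).symm

theorem hMap_eS_eq_zero {p : ℕ} (hF : ∀ i, Subsingleton (Coh.HH X (F i) p)) (S : Finset ι)
    (x : Coh.HH X (∐ F) p) : Sheaf.H.map ((toAbF X).map (eS F S)) p x = 0 := by
  classical
  induction S using Finset.induction_on with
  | empty =>
    have e : eS F ∅ = 0 := Sigma.hom_ext _ _ fun j => by rw [ι_eS, if_neg (Finset.notMem_empty j), comp_zero]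
    rw [e]
    exact (congrArg (fun φ => Sheaf.H.map φ p x) (Functor.map_zero _ _ _)).trans
      ((congrArg (fun e => Abelian.Ext.comp x e (add_zero p)) (Abelian.Ext.mk₀_zero _ _)).trans
        (Abelian.Ext.comp_zero ..))
  | @insert a S ha ih =>
    let πa : ∐ F ⟶ F a := Sigma.desc fun j => if h : j = a then eqToHom (congrArg F h) else 0
    have e : eS F (insert a S) = πa ≫ Sigma.ι F a + eS F S := by
      refine Sigma.hom_ext _ _ fun j => ?_
      rw [ι_eS, Preadditive.comp_add, ι_eS, ← Category.assoc, Sigma.ι_desc]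
      by_cases h : j = a
      · subst h
        rw [if_pos (Finset.mem_insert_self _ _), dif_pos rfl, if_neg ha, eqToHom_refl, Category.id_comp, add_zero]
      · rw [dif_neg h, zero_comp, zero_add]
        exact if_congr (by simp [h]) rfl rfl
    rw [e, Functor.map_add, Sheaf.H.map_add_apply, ih, add_zero, Functor.map_comp, Sheaf.H.map_comp_apply]
    have := hF a
    rw [Subsingleton.elim (Sheaf.H.map ((toAbF X).map πa) p x) 0, map_zero]

/-- **Direct sums of modules without cohomology in degree `p`.** -/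
theorem subsingleton_HH_sigma [CompactSpace X] [X.IsSeparated] (hq : ∀ i, Coh.IsQCoh (F i)) {p : ℕ}
    (hF : ∀ i, Subsingleton (Coh.HH X (F i) p)) : Subsingleton (Coh.HH X (∐ F) p) := by
  classical
  have : Coh.IsQCoh (∐ F) := QCohLib.isQCoh_sigma F hq
  let 𝒰 := X.affineCover.finiteSubcover
  obtain ⟨n, ⟨e⟩⟩ := Finite.exists_equiv_fin 𝒰.I₀
  let V : ULift.{u} (Fin n) → X.Opens := fun i => (𝒰.f (e.symm i.down)).opensRange
  have hV : ∀ i, IsAffineOpen (V i) := fun i =>
    have : IsAffine (𝒰.X (e.symm i.down)) := inferInstanceAs (IsAffine (X.affineCover.X _))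
    isAffineOpen_opensRange _
  have hcov : ⨆ i, V i = ⊤ := top_le_iff.1 (𝒰.iSup_opensRange.ge.trans
    (iSup_le fun j => le_iSup_of_le (ULift.up (e j)) (le_of_eq (congrArg (fun t => (𝒰.f t).opensRange)
      (e.symm_apply_apply j).symm))))
  have hcap : ∀ {m : ℕ} (J : Fin (m + 1) → ULift.{u} (Fin n)), IsAffineOpen (CechLib.cap (X := X.toTopCat) V J) :=
    fun J => AtlasCoh.isAffineOpen_cap V hV J
  have hacyc : CechLib.Acyc (X := X.toTopCat) V (Coh.toAb (∐ F)) :=
    fun m J q => QCohLib.subsingleton_HU_affine (∐ F) q (hcap J)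
  refine subsingleton_of_forall_eq 0 fun x => ?_
  let C := CechLib.cx (X := X.toTopCat) V (Coh.toAb (∐ F)).obj
  let cmp : C.homology p ≃+ Coh.HH X (∐ F) p :=
    (CohBCLib.cechCmp (X := X.toTopCat) V p (Coh.toAb (∐ F)) hacyc).trans
      ((CohBCLib.huTop V hcov (Coh.toAb (∐ F)) p).trans (QCohLib.hEquiv (Coh.toAb (∐ F)) p).symm)
  obtain ⟨y, rfl⟩ := cmp.surjective x
  obtain ⟨z, rfl⟩ := (AddCommGrpCat.epi_iff_surjective (C.homologyπ p)).1 inferInstance y
  have hfin : ∀ J : Fin (p + 1) → ULift.{u} (Fin n), ∃ S : Finset ι, ∀ T, S ⊆ T →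
      (eS F T).app _ (CechLib.cochainEquiv V (Coh.toAb (∐ F)).obj p (C.iCycles p z) J) =
        CechLib.cochainEquiv V (Coh.toAb (∐ F)).obj p (C.iCycles p z) J :=
    fun J => exists_fixed_section F (hcap J).isCompact _
  choose S hS using hfin
  let T := Finset.univ.biUnion S
  let g := (toAbF X).map (eS F T)
  let φ : C ⟶ C := (cechComplexFunctor (C := Opens X) V).map g.hom
  have h1 : cyclesMap φ p z = z := by
    apply (AddCommGrpCat.mono_iff_injective (C.iCycles p)).1 inferInstance
    refine (ConcreteCategory.congr_hom (cyclesMap_i φ p) z).trans ?_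
    apply (CechLib.cochainEquiv V (Coh.toAb (∐ F)).obj p).injective
    funext J
    refine (CechLib.cochainEquiv_map V g.hom p (C.iCycles p z) J).trans ?_
    exact hS J T (Finset.subset_biUnion_of_mem S (Finset.mem_univ J))
  have h2 : homologyMap φ p (C.homologyπ p z) = C.homologyπ p z :=
    (ConcreteCategory.congr_hom (homologyπ_naturality φ p) z).trans (congrArg (C.homologyπ p) h1)
  have h3 : cmp (homologyMap φ p (C.homologyπ p z)) = Sheaf.H.map g p (cmp (C.homologyπ p z)) :=
    CohBCLib.hCmp_aux V hcov p hacyc hacyc g _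
  rw [h2] at h3
  rw [h3]
  exact hMap_eS_eq_zero F hF T _

end AmpleAffLib
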