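import Groth.Agent.AmpleAffLib.NegPow
import Groth.Agent.HilbPolyLib.Twist
import Groth.Agent.SerreVanLib.Converse
import Groth.Agent.KFlatLib.PerfectPull
import Groth.Agent.MiscFlat6.AmpleFamily
import Groth.Prelude.Def_KSix

/-!
# Quotients of sums of negative powers
-/

set_option autoImplicit false

universe u
open CategoryTheory CategoryTheory.Limits AlgebraicGeometry TopologicalSpace Opposite
open AmpleLib AmpleThLib
open TwistLib (genSet)

noncomputable section

namespace AmpleAffLib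

variable {X : Scheme.{u}}

/-- A morphism killing all sections over the members of an affine cover is zero. -/
theorem eq_zero_of_cover {M M' : X.Modules} [Coh.IsQCoh M] (q : M ⟶ M') {ι : Type*} (V : ι → X.Opens)
    (hV : ∀ i, IsAffineOpen (V i)) (hcov : ∀ x : X, ∃ i, x ∈ V i) (h : ∀ i (w : Γ(M, V i)), q.app (V i) w = 0) :
    q = 0 := by
  apply Scheme.Modules.hom_ext
  intro W
  refine ConcreteCategory.hom_ext _ _ fun w => TwistLib.mod_ext M' fun y hy => ?_
  obtain ⟨i, hyi⟩ := hcov y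
  obtain ⟨g, hgW, hyg⟩ := (hV i).exists_basicOpen_le (V := W) ⟨y, hy⟩ hyi
  obtain ⟨n, j, hj⟩ := (QCohLib.localizingAt_of_qcqs M (hV i).isCompact (hV i).isQuasiSeparated g).exists_extend
    (res M hgW w)
  have h3 := congrArg (q.app (X.basicOpen g)) hj
  rw [QCohLib.app_map, h i, map_zero, QCohLib.app_smul] at h3
  have hu : IsUnit (X.presheaf.map (homOfLE (X.basicOpen_le g)).op g) := RingedSpace.isUnit_res_basicOpen _ g
  have h4 : q.app (X.basicOpen g) (res M hgW w) = 0 := (hu.pow n).smul_eq_zero.mp h3.symm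
  change M'.presheaf.germ W y hy (q.app W w) = M'.presheaf.germ W y hy 0
  rw [map_zero, ← AmpleLib.germ_res M' hgW (q.app W w) (x := y) hyg,
    show AmpleLib.res M' hgW (q.app W w) = _ from (QCohLib.app_map q _ _).symm, h4, map_zero]

/-- Inverses are unique. -/
theorem nonempty_iso_of_inverse_unique {L M M' : X.Modules} (e : CohB1.tensorMod L M ≅ Coh.structureModule X)
    (e' : CohB1.tensorMod L M' ≅ Coh.structureModule X) : Nonempty (M ≅ M') :=
  ⟨(HilbPolyLib.unitLeft M).symm ≪≫ HilbPolyLib.congrLeft (e'.symm ≪≫ HilbPolyLib.swapIso L M') M ≪≫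
    HilbPolyLib.assocIso M' L M ≪≫ HilbPolyLib.congrRight M' e ≪≫ HilbPolyLib.swapIso M' _ ≪≫
    HilbPolyLib.unitLeft M'⟩

variable [CompactSpace X] [QuasiSeparatedSpace X] {P : X → X.Modules} (hP : ∀ x, PicF.IsInvertible (P x))
  (t : ∀ x, Γ(P x, ⊤)) (hx : ∀ x, x ∈ genSet (hP x) (t x)) (ha : ∀ x, IsAffineOpen (genSet (hP x) (t x)))

include hx ha in
/-- Every quasi-coherent module is a quotient of a sum of high negative powers. -/
theorem exists_epi_sigma (M : X.Modules) [Coh.IsQCoh M] (k₀ : ℕ) :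
    ∃ (I : Type u) (x : I → X) (N : I → ℕ) (π : (∐ fun a => MiscFlat6.dual (CohB1.tensorPow (P (x a)) (N a))) ⟶ M),
      (∀ a, k₀ ≤ N a) ∧ Epi π := by
  choose N β hN hq using fun a : (x : X) × Γ(M, genSet (hP x) (t x)) =>
    exists_negPow_hom (hP a.1) (t a.1) M a.2 k₀
  refine ⟨_, fun a => a.1, N, Sigma.desc β, hN, Preadditive.epi_of_cancel_zero _ fun {M'} q h =>
    eq_zero_of_cover q _ ha (fun x => ⟨x, hx x⟩) fun x w => hq ⟨x, w⟩ q ?_⟩
  rw [← Sigma.ι_desc β ⟨x, w⟩, Category.assoc, h, comp_zero]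

include hx ha in
/-- Every quasi-coherent module of finite type is a quotient of a finite sum of negative powers. -/
theorem exists_epi_biproduct (M : X.Modules) [Coh.IsQCoh M] (hFT : CohB1.IsFT M) :
    ∃ (k : ℕ) (x : Fin k → X) (N : Fin k → ℕ)
      (π : (⨁ fun a => MiscFlat6.dual (CohB1.tensorPow (P (x a)) (N a))) ⟶ M), (∀ a, 1 ≤ N a) ∧ Epi π := by
  classical
  obtain ⟨S, hS⟩ := isCompact_univ.elim_finite_subcover (fun x => (genSet (hP x) (t x) : Set X))
    (fun x => (genSet (hP x) (t x)).2) fun x _ => Set.mem_iUnion.mpr ⟨x, hx x⟩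
  choose T hT using fun x => (QCohLib.finite_of_isFT hFT (ha x)).fg_top
  obtain ⟨k, ⟨e⟩⟩ := Finite.exists_equiv_fin (Σ x : S, T x.1)
  choose N β hN hq using fun a : Fin k =>
    exists_negPow_hom (hP (e.symm a).1.1) (t (e.symm a).1.1) M (e.symm a).2.1 1
  refine ⟨k, fun a => (e.symm a).1.1, N, biproduct.desc β, hN, Preadditive.epi_of_cancel_zero _ fun {M'} q h => ?_⟩
  have hgen : ∀ (x : S) (m : T x.1), q.app _ m.1 = 0 := fun x m => by
    obtain ⟨a, ha'⟩ := e.symm.surjective ⟨x, m⟩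
    have h1 := hq a q (by rw [← biproduct.ι_desc β a, Category.assoc, h, comp_zero])
    rw [ha'] at h1
    exact h1
  refine eq_zero_of_cover q (fun x : S => genSet (hP x.1) (t x.1)) (fun x => ha x.1) (fun y => ?_) fun x w => ?_
  · obtain ⟨x, hxS, hyx⟩ := Set.mem_iUnion₂.mp (hS (Set.mem_univ y))
    exact ⟨⟨x, hxS⟩, hyx⟩
  · have hw : w ∈ Submodule.span Γ(X, genSet (hP x.1) (t x.1)) (T x.1 : Set Γ(M, genSet (hP x.1) (t x.1))) := by
      rw [hT x.1]; trivial
    induction hw using Submodule.span_induction with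
    | mem a ha => exact hgen x ⟨a, ha⟩
    | zero => exact map_zero _
    | add a c _ _ h1 h2 => rw [map_add, h1, h2, add_zero]
    | smul r a _ h1 => rw [QCohLib.app_smul, h1, smul_zero]

omit [CompactSpace X] [QuasiSeparatedSpace X] in
/-- Powers of an inverse pair. -/
theorem nonempty_powInverse {L L' : X.Modules} (e : CohB1.tensorMod L L' ≅ Coh.structureModule X) :
    ∀ n : ℕ, Nonempty (CohB1.tensorMod (CohB1.tensorPow L n) (CohB1.tensorPow L' n) ≅ Coh.structureModule X)
  | 0 => ⟨HilbPolyLib.unitLeft (Coh.structureModule X)⟩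
  | n + 1 => by
    obtain ⟨φ⟩ := nonempty_powInverse e n
    exact ⟨HilbPolyLib.assocIso (CohB1.tensorPow L n) L (CohB1.tensorMod (CohB1.tensorPow L' n) L') ≪≫
      HilbPolyLib.congrRight _ (HilbPolyLib.leftComm L (CohB1.tensorPow L' n) L' ≪≫
        HilbPolyLib.congrRight _ e ≪≫ HilbPolyLib.swapIso _ _ ≪≫ HilbPolyLib.unitLeft _) ≪≫ φ⟩

omit [CompactSpace X] [QuasiSeparatedSpace X] in
/-- The dual of a power of a power is a power of the inverse. -/
theorem nonempty_dual_powPow {L L' : X.Modules} (hL : PicF.IsInvertible L)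
    (e : CohB1.tensorMod L L' ≅ Coh.structureModule X) (d N : ℕ) :
    Nonempty (MiscFlat6.dual (CohB1.tensorPow (CohB1.tensorPow L d) N) ≅ CohB1.tensorPow L' (d * N)) := by
  obtain ⟨φ, -⟩ := exists_powIso hL d N
  obtain ⟨ψ⟩ := nonempty_powInverse e (d * N)
  obtain ⟨χ⟩ := MiscFlat6.nonempty_dualIso (tensorPow_isInvertible (tensorPow_isInvertible hL d) N)
  exact nonempty_iso_of_inverse_unique χ (HilbPolyLib.congrLeft φ _ ≪≫ ψ)

end AmpleAffLib
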